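import Cfsg.Agent.Lib.HeightCenter.Weight

/-!
# Counting subsections with weights bounded below
-/

set_option autoImplicit false
set_option linter.unusedSectionVars false
set_option linter.style.haveILetI false

namespace Cfsg.Agent.Lib.HeightCenter

open Cfsg Cfsg.Agent.Lib.Blocks Cfsg.Agent.Lib.Characters Cfsg.Agent.Lib.BlockHeights
open scoped ComplexConjugate

universe u

variable {n : ℕ} [NeZero n]

/-- The conjugates of a nonzero algebraic integer have mean norm at least one. -/
theorem card_le_sum_gal_norm [Fintype (cycField n ≃ₐ[ℚ] cycField n)] (b : cycField n)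
    (hint : IsIntegral ℤ (b : ℂ)) (hne : b ≠ 0) :
    (Fintype.card (cycField n ≃ₐ[ℚ] cycField n) : ℝ) ≤
      ∑ σ : cycField n ≃ₐ[ℚ] cycField n, ‖((σ b : cycField n) : ℂ)‖ := by
  classical
  have hfix : ∀ τ : (cycField n ≃ₐ[ℚ] cycField n), τ (∏ σ : (cycField n ≃ₐ[ℚ] cycField n), σ b) = ∏ σ : (cycField n ≃ₐ[ℚ] cycField n), σ b := fun τ => by
    rw [map_prod]
    exact Fintype.prod_equiv (Equiv.mulLeft τ) _ _ fun σ => rfl
  obtain ⟨q, hq⟩ := exists_rat_of_fixed hfix
  rw [SubmonoidClass.coe_finsetProd] at hq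
  have hintσ : ∀ σ : (cycField n ≃ₐ[ℚ] cycField n), IsIntegral ℤ ((σ b : cycField n) : ℂ) := fun σ => by
    have h1 : IsIntegral ℤ b :=
      (isIntegral_algHom_iff ((cycField n).val.restrictScalars ℤ) Subtype.val_injective).1 hint
    exact (h1.map (σ.toAlgHom.restrictScalars ℤ)).map ((cycField n).val.restrictScalars ℤ)
  obtain ⟨z, rfl⟩ := exists_int_of_isIntegral_rat (q := q)
    (hq ▸ IsIntegral.prod _ fun σ _ => hintσ σ)
  have hz0 : z ≠ 0 := by
    rintro rfl
    rw [Int.cast_zero, Rat.cast_zero, Finset.prod_eq_zero_iff] at hq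
    obtain ⟨σ, -, h0⟩ := hq
    have h1 : σ b = 0 := Subtype.ext h0
    rw [map_eq_zero] at h1
    exact hne h1
  have h1 : (1 : ℝ) ≤ ∏ σ : (cycField n ≃ₐ[ℚ] cycField n), ‖((σ b : cycField n) : ℂ)‖ := by
    rw [← norm_prod, hq]
    rw [show (((z : ℚ) : ℂ)) = (z : ℂ) by simp, Complex.norm_intCast]
    exact_mod_cast Int.one_le_abs hz0
  have hc : (0 : ℝ) < Fintype.card (cycField n ≃ₐ[ℚ] cycField n) := by exact_mod_cast Fintype.card_pos
  have amgm := Real.geom_mean_le_arith_mean Finset.univ (fun _ => (1 : ℝ))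
    (fun σ : (cycField n ≃ₐ[ℚ] cycField n) => ‖((σ b : cycField n) : ℂ)‖) (fun _ _ => zero_le_one)
    (by simpa using hc) (fun _ _ => by positivity)
  simp only [Real.rpow_one, Finset.sum_const, Finset.card_univ, nsmul_eq_mul, mul_one,
    one_mul] at amgm
  have h3 := (Real.one_le_rpow h1 (by positivity)).trans amgm
  rwa [le_div_iff₀ hc, one_mul] at h3

variable {G : Type u} [Group G] [Fintype G] {M : Ideal AlgInt} [hMp : M.IsPrime] {p : ℕ}

theorem mem_centralizer_iff_commute {x g : G} :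
    g ∈ Subgroup.centralizer ({x} : Set G) ↔ Commute x g :=
  ⟨fun h => (Subgroup.mem_centralizer_singleton_iff.1 h).symm,
    fun h => Subgroup.mem_centralizer_singleton_iff.2 h.eq.symm⟩

/-- The subsection weights of a character of a block add up to one. -/
theorem sum_weight_eq_one (hM : IsPModular p M) {B : Set (IrrCharacter G)} (hB : IsPBlock M B)
    (X : Finset G) (hX : ∀ x ∈ X, ∃ k : ℕ, orderOf x = p ^ k)
    (hXrep : ∀ g : G, (∃ k : ℕ, orderOf g = p ^ k) → ∃! x, x ∈ X ∧ IsConj g x)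
    [∀ x : G, Fintype (Subgroup.centralizer ({x} : Set G))] {χ : IrrCharacter G} (hχ : χ ∈ B) :
    ∑ x ∈ X, ∑ᶠ b ∈ {b : Set (IrrCharacter (Subgroup.centralizer ({x} : Set G))) |
      IsInducedBlock M (Subgroup.centralizer ({x} : Set G)) b B}, weight p x b χ = 1 := by
  classical
  have h1 := IsIrrCharacter.classInner_self χ.2
  rw [classInner, inv_mul_eq_one₀ natCard_ne_zero_complex,
    sum_eq_sum_sections hM.1 X hX hXrep (f := fun g => (χ : G → ℂ) g * conj ((χ : G → ℂ) g))
      (fun a b => by simp only [irr_isClassFunction χ a b])] at h1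
  apply mul_left_cancel₀ (natCard_ne_zero_complex (G := G))
  rw [mul_one, Finset.mul_sum]
  conv_rhs => rw [h1]
  refine Finset.sum_congr rfl fun x hx => ?_
  simp only [weight]
  rw [classInner_section_split hM (hX x hx) hB hχ, classInner, ← mul_assoc]
  congr 1
  · rw [eq_comm, eq_mul_inv_iff_mul_eq₀ natCard_ne_zero_complex]
    exact_mod_cast card_conj_mul_card_centralizer x
  · refine Finset.sum_congr (by ext; simp) fun t _ => ?_
    simp only [pRegularPart_eq, shiftRes, map_mul, conj_regInd]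
    split_ifs with ht
    · rw [regInd_of_regular ht]; ring
    · rw [regInd_of_singular ht]; ring

/-- A subsection of `B`. -/
abbrev Subsection (M : Ideal AlgInt) (B : Set (IrrCharacter G)) (X : Finset G) :=
  Σ x : X, {b : Set (IrrCharacter (Subgroup.centralizer ({(x : G)} : Set G))) //
    IsInducedBlock M (Subgroup.centralizer ({(x : G)} : Set G)) b B}

/-- **Major subsections are few when a character has large height.** -/
theorem card_mul_pow_height_le (hM : IsPModular p M) {B : Set (IrrCharacter G)} (hB : IsPBlock M B)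
    (X : Finset G) (hX : ∀ x ∈ X, ∃ k : ℕ, orderOf x = p ^ k)
    (hXrep : ∀ g : G, (∃ k : ℕ, orderOf g = p ^ k) → ∃! x, x ∈ X ∧ IsConj g x)
    {ι : Type*} [Finite ι] (f : ι → Subsection M B X) (hf : Function.Injective f)
    (hd : ∀ i, blockDefect p (f i).2.1 = blockDefect p B)
    {χ : IrrCharacter G} (hχ : χ ∈ B) :
    p ^ blockHeight p B (χ : G → ℂ) * Nat.card ι ≤ p ^ blockDefect p B := by
  classical
  haveI : NeZero (Nat.card G) := ⟨Nat.card_pos.ne'⟩
  haveI : ∀ x : G, Fintype (Subgroup.centralizer ({x} : Set G)) := fun x => Fintype.ofFinite _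
  haveI := Fintype.ofFinite ι
  haveI : ∀ x : X, Fintype {b : Set (IrrCharacter (Subgroup.centralizer ({(x : G)} : Set G))) //
      IsInducedBlock M (Subgroup.centralizer ({(x : G)} : Set G)) b B} := fun _ => Fintype.ofFinite _
  haveI := isCyclotomic_cycField (Nat.card G)
  haveI : FiniteDimensional ℚ (cycField (Nat.card G)) :=
    IsCyclotomicExtension.finiteDimensional {Nat.card G} ℚ _
  let Γ := cycField (Nat.card G) ≃ₐ[ℚ] cycField (Nat.card G)
  haveI : Fintype Γ := Fintype.ofFinite _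
  set h := blockHeight p B (χ : G → ℂ) with hh
  set d := blockDefect p B with hdd
  have hp0 : (p : ℂ) ≠ 0 := Nat.cast_ne_zero.2 hM.1.ne_zero
  let w : Subsection M B X → cycField (Nat.card G) := fun i =>
    ⟨weight p (i.1 : G) i.2.1 χ, weight_mem_cycField (fun _ => mem_centralizer_iff_commute) _ _⟩
  have hsum : ∑ i, w i = 1 := Subtype.ext (by
    rw [AddSubmonoidClass.coe_finsetSum, OneMemClass.coe_one, ← sum_weight_eq_one hM hB X hX hXrep hχ,
      ← Finset.sum_coe_sort X]
    refine (Fintype.sum_sigma (fun i => ((w i : cycField (Nat.card G)) : ℂ))).trans ?_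
    refine Finset.sum_congr rfl fun x _ => ?_
    rw [finsum_mem_eq_finite_toFinset_sum _ (Set.toFinite _)]
    symm
    refine Finset.sum_subtype _ (fun b => by simp) _)
  choose r hr0 hrσ using fun (σ : Γ) (i : Subsection M B X) =>
    gal_weight_nonneg (p := p) (fun _ => mem_centralizer_iff_commute) i.2.1 χ σ
  have hone : ∀ σ : Γ, ∑ i, r σ i = 1 := fun σ => by
    have h1 := congrArg (fun z : cycField (Nat.card G) => ((σ z : cycField (Nat.card G)) : ℂ)) hsum
    simp only [map_sum, map_one, AddSubmonoidClass.coe_finsetSum, OneMemClass.coe_one, w, hrσ] at h1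
    exact_mod_cast h1
  let a : ι → cycField (Nat.card G) := fun i => (p : cycField (Nat.card G)) ^ d / (p : cycField (Nat.card G)) ^ h * w (f i)
  have hacoe : ∀ i, ((a i : cycField (Nat.card G)) : ℂ) =
      (p : ℂ) ^ d * weight p ((f i).1 : G) (f i).2.1 χ / (p : ℂ) ^ h := fun i => by
    simp only [a, w]
    push_cast
    ring
  have hlow : ∀ i, (Fintype.card Γ : ℝ) ≤ ∑ σ : Γ, (p : ℝ) ^ d / (p : ℝ) ^ h * r σ (f i) := by
    intro i
    refine le_of_le_of_eq (card_le_sum_gal_norm (a i) ?_ ?_) (Finset.sum_congr rfl fun σ _ => ?_)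
    · rw [hacoe]
      exact isIntegral_scaled_weight hM (fun _ => mem_centralizer_iff_commute) (hX _ (f i).1.2)
        (f i).2.2 (hd i) hχ
    · intro h0
      have h1 := congrArg Subtype.val h0
      rw [hacoe, ZeroMemClass.coe_zero, div_eq_zero_iff, mul_eq_zero] at h1
      rcases h1 with (h1 | h1) | h1
      · exact pow_ne_zero _ hp0 h1
      · exact weight_ne_zero hM (fun _ => mem_centralizer_iff_commute) (hX _ (f i).1.2)
          (f i).2.2 (hd i) hχ h1
      · exact pow_ne_zero _ hp0 h1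
    · simp only [a, map_mul, map_div₀, map_pow, map_natCast, w]
      push_cast
      rw [hrσ]
      simp only [norm_mul, norm_div, norm_pow, Complex.norm_natCast, Complex.norm_real,
        Real.norm_eq_abs, abs_of_nonneg (hr0 σ _)]
  have hup : ∀ σ : Γ, ∑ i, r σ (f i) ≤ 1 := fun σ => by
    rw [← hone σ, ← Finset.sum_image (f := r σ) fun x _ y _ h => hf h]
    exact Finset.sum_le_sum_of_subset_of_nonneg (Finset.subset_univ _) fun j _ _ => hr0 σ j
  have hppos : (0 : ℝ) < p := by exact_mod_cast hM.1.pos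
  have key : (Fintype.card Γ : ℝ) * Fintype.card ι ≤
      (Fintype.card Γ : ℝ) * ((p : ℝ) ^ d / (p : ℝ) ^ h) := by
    calc (Fintype.card Γ : ℝ) * Fintype.card ι = ∑ _i : ι, (Fintype.card Γ : ℝ) := by
          rw [Finset.sum_const, Finset.card_univ, nsmul_eq_mul, mul_comm]
      _ ≤ ∑ i : ι, ∑ σ : Γ, (p : ℝ) ^ d / (p : ℝ) ^ h * r σ (f i) := Finset.sum_le_sum fun i _ => hlow i
      _ = ∑ σ : Γ, (p : ℝ) ^ d / (p : ℝ) ^ h * ∑ i : ι, r σ (f i) := by
          rw [Finset.sum_comm]; simp only [← Finset.mul_sum]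
      _ ≤ ∑ _σ : Γ, (p : ℝ) ^ d / (p : ℝ) ^ h * 1 :=
          Finset.sum_le_sum fun σ _ => mul_le_mul_of_nonneg_left (hup σ) (by positivity)
      _ = _ := by rw [Finset.sum_const, Finset.card_univ, nsmul_eq_mul, mul_one]
  have hc : (0 : ℝ) < Fintype.card Γ := by exact_mod_cast Fintype.card_pos
  have h2 := le_of_mul_le_mul_left key hc
  rw [le_div_iff₀ (pow_pos hppos h)] at h2
  rw [Nat.card_eq_fintype_card, mul_comm]
  exact_mod_cast h2

end Cfsg.Agent.Lib.HeightCenter
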