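import Cfsg.Agent.Lib.HeightCenter.RootPair
import Cfsg.Agent.Lib.HeightCenter.Count

/-!
# The major subsections at central elements of a defect group
-/

set_option autoImplicit false
set_option linter.unusedSectionVars false
set_option linter.style.haveILetI false

namespace Cfsg.Agent.Lib.HeightCenter

open Cfsg Cfsg.Agent.Lib.Blocks Cfsg.Agent.Lib.Characters Cfsg.Agent.Lib.BrauerPairs
open Cfsg.Agent.Lib.BlockHeights

universe u

variable {G : Type u} [Group G] [Fintype G] {M : Ideal AlgInt} [hMp : M.IsPrime] {p : ℕ}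
  {D : Subgroup G} {B : Set (IrrCharacter G)}
  {e : Set (IrrCharacter (Subgroup.centralizer (D : Set G)))}

theorem blockDefect_conjBlock (Q : Subgroup G) (g : G)
    (f : Set (IrrCharacter (Subgroup.centralizer (Q : Set G)))) :
    blockDefect p (conjBlock Q g f) = blockDefect p f := by
  rw [conjBlock_eq_transBlock, blockDefect, blockDefect,
    Nat.card_congr (conjEquiv g (mem_centralizer_map_conj Q g)).toEquiv, transBlock,
    Set.image_image]
  congr 2
  refine Set.image_congr' fun ξ => ?_
  rw [charDegree, charDegree, ← map_one (conjEquiv g (mem_centralizer_map_conj Q g)),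
    transIrr_apply]

theorem exists_block_of_eq {K L : Subgroup G} (h : K = L) {b : Set (IrrCharacter K)}
    (hind : IsInducedBlock M K b B) {d : ℕ} (hd : blockDefect p b = d) :
    ∃ b' : Set (IrrCharacter L), IsInducedBlock M L b' B ∧ blockDefect p b' = d ∧
      subgroupBlockCoeff L b' = subgroupBlockCoeff K b := by
  subst h
  exact ⟨b, hind, hd, rfl⟩

theorem isInducedBlock_of_eq_zpowers (hM : IsPModular p M) {Q : Subgroup G} {x : G}
    (h : Q = Subgroup.zpowers x) {f : Set (IrrCharacter (Subgroup.centralizer (Q : Set G)))}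
    (hf : IsBrauerPairOf p M B Q f) :
    IsInducedBlock M (Subgroup.centralizer (Q : Set G)) f B := by
  subst h
  exact isInducedBlock_of_isBrauerPairOf_zpowers hM hf

theorem exists_pElement_reps (p : ℕ) :
    ∃ X : Finset G, (∀ x ∈ X, ∃ k : ℕ, orderOf x = p ^ k) ∧
      ∀ g : G, (∃ k : ℕ, orderOf g = p ^ k) → ∃! x, x ∈ X ∧ IsConj g x := by
  classical
  let r : G → G := fun g => Quotient.out (ConjClasses.mk g)
  have hr : ∀ g, IsConj (r g) g := fun g =>
    ConjClasses.mk_eq_mk_iff_isConj.1 (Quotient.out_eq (ConjClasses.mk g))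
  refine ⟨(Finset.univ.filter fun g => ∃ k : ℕ, orderOf g = p ^ k).image r, fun x hx => ?_,
    fun g hg => ⟨r g, ⟨Finset.mem_image_of_mem r (Finset.mem_filter.2 ⟨Finset.mem_univ _, hg⟩),
      (hr g).symm⟩, fun y hy => ?_⟩⟩
  · obtain ⟨g, hg, rfl⟩ := Finset.mem_image.1 hx
    obtain ⟨k, hk⟩ := (Finset.mem_filter.1 hg).2
    obtain ⟨c, hc⟩ := isConj_iff.1 (hr g).symm
    refine ⟨k, ?_⟩
    rw [← hc, ← MulAut.conj_apply, MulEquiv.orderOf_eq, hk]
  · obtain ⟨g', -, rfl⟩ := Finset.mem_image.1 hy.1
    simp only [r]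
    rw [ConjClasses.mk_eq_mk_iff_isConj.2 (hy.2.trans (hr g'))]

/-- The pair at a central element of the defect group is induced with full defect. -/
theorem major_of_center (hM : IsPModular p M) (hD : IsDefectGroup p M B D)
    (hmax : IsMaximalBrauerPair p M B D e) {u : G} (huD : u ∈ D)
    (huC : u ∈ Subgroup.centralizer (D : Set G))
    {f : Set (IrrCharacter (Subgroup.centralizer (Subgroup.zpowers u : Set G)))}
    (hle : SubpairLE p M (Subgroup.zpowers u) f D e) :
    IsInducedBlock M (Subgroup.centralizer (Subgroup.zpowers u : Set G)) f B ∧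
      blockDefect p f = blockDefect p B := by
  classical
  haveI := Fact.mk hM.1
  haveI := Fintype.ofFinite (Subgroup.centralizer (Subgroup.zpowers u : Set G))
  have hpair := isBrauerPairOf_of_subpairLE hM hmax hle
  have hind := isInducedBlock_of_isBrauerPairOf_zpowers hM hpair
  refine ⟨hind, ?_⟩
  obtain ⟨E, hE, hEle⟩ := exists_defectGroup_ge_centralizer hM hmax.1.1 hle
  have hDC : D ≤ Subgroup.centralizer (Subgroup.zpowers u : Set G) := fun a ha =>
    mem_centralizer_zpowers_iff.2 (Subgroup.mem_centralizer_iff.1 huC a ha).symm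
  rw [inf_eq_left.2 hDC] at hEle
  obtain ⟨E', hE', hEE'⟩ := exists_le_defectGroup hM hind hE
  have h1 : Nat.card D ≤ Nat.card E := by
    rw [← card_subgroupOf hDC]
    exact Subgroup.card_le_of_le hEle
  have h2 : Nat.card E ≤ Nat.card E' := by
    rw [Nat.card_congr (E.equivMapOfInjective _ (Subgroup.subtype_injective _)).toEquiv]
    exact Subgroup.card_le_of_le hEE'
  rw [IsDefectGroup.card_eq hM hmax.1.2.1 hE'] at h2
  rw [IsDefectGroup.card_eq hM hmax.1.2.1 hD] at h1
  rw [IsDefectGroup.card_eq hM hpair.1.2 hE] at h1 h2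
  exact Nat.pow_right_injective hM.1.two_le (le_antisymm h2 h1)

theorem mem_pairStab_of_extend (hM : IsPModular p M) (hPe : IsBrauerPair p M D e) {N : Subgroup G}
    (hN : N = D) {n : Set (IrrCharacter (Subgroup.centralizer (N : Set G)))} {g : G}
    (hn : SubpairLE p M N n D e)
    (hn' : SubpairLE p M (N.map (MulAut.conj g).toMonoidHom) (conjBlock N g n) D e) :
    g ∈ pairStab D e := by
  subst hN
  obtain rfl := (eq_of_subpairLE_self hM hn).symm
  have hmap : N.map (MulAut.conj g).toMonoidHom = N :=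
    Subgroup.eq_of_le_of_card_ge (subpairLE_le hn') (by rw [card_map_conj])
  have h1 : conjPair g (⟨N, e⟩ : BrauerPairIdx G) = ⟨N, e⟩ :=
    pair_unique hM hPe (a := conjPair g ⟨N, e⟩) (b := ⟨N, e⟩) hn' Relation.ReflTransGen.refl hmap
  refine ⟨Fusion.mem_normalizer_of_finite fun y hy => hmap.le ⟨y, hy, rfl⟩, ?_⟩
  have h2 := congrArg pairCoeff h1
  rwa [pairCoeff_conjPair] at h2

/-- **Fusion of central elements with their pairs happens in the stabiliser of the maximal pair.** -/
theorem center_fusion (hM : IsPModular p M) (hmax : IsMaximalBrauerPair p M B D e) {u u' a : G}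
    (huD : u ∈ D) (huC : u ∈ Subgroup.centralizer (D : Set G)) (hu'D : u' ∈ D)
    (hu'C : u' ∈ Subgroup.centralizer (D : Set G)) (ha : a * u * a⁻¹ = u')
    {f : Set (IrrCharacter (Subgroup.centralizer (Subgroup.zpowers u : Set G)))}
    (hle : SubpairLE p M (Subgroup.zpowers u) f D e)
    {f' : Set (IrrCharacter (Subgroup.centralizer (Subgroup.zpowers u' : Set G)))}
    (hle' : SubpairLE p M (Subgroup.zpowers u') f' D e)
    (hco : gconj a (subgroupBlockCoeff (Subgroup.centralizer (Subgroup.zpowers u : Set G)) f) =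
      subgroupBlockCoeff (Subgroup.centralizer (Subgroup.zpowers u' : Set G)) f') :
    ∃ g ∈ pairStab D e, g * u * g⁻¹ = u' := by
  classical
  haveI := Fact.mk hM.1
  have hmap : (Subgroup.zpowers u).map (MulAut.conj a).toMonoidHom = Subgroup.zpowers u' := by
    rw [MonoidHom.map_zpowers]
    exact congrArg Subgroup.zpowers ha
  have heq : conjPair a (⟨_, f⟩ : BrauerPairIdx G) = ⟨_, f'⟩ :=
    pair_ext hmap (by rw [pairCoeff_conjPair]; exact hco)
  have hle'' : SubpairLE p M ((Subgroup.zpowers u).map (MulAut.conj a).toMonoidHom)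
      (conjBlock (Subgroup.zpowers u) a f) D e := by
    show Relation.ReflTransGen (NormalSubpairRel p M) (conjPair a ⟨_, f⟩) ⟨D, e⟩
    rw [heq]; exact hle'
  have hF := isBlockFusionSystemOn_blockFusion hM hmax
  have hphi : conjHom (Subgroup.zpowers u) a ∈ (blockFusion hM hmax).Hom (Subgroup.zpowers u) :=
    ⟨Subgroup.zpowers_le.2 huD, a, fun x => rfl, subpairLE_le hle'', f, hle, hle''⟩
  have hDN : D ≤ Subgroup.normalizer ((Subgroup.zpowers u' : Subgroup G) : Set G) := fun x hx =>
    Subgroup.centralizer_le_normalizer _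
      (mem_centralizer_zpowers_iff.2 (Subgroup.mem_centralizer_iff.1 hu'C x hx).symm)
  have hfull := isFullPair_of_isDefectGroup hM hmax.1.1 hle' (isDefectGroup_stab_of_max hM hmax hle'
    fun y _ => by rw [inf_eq_left.2 hDN]; exact Subgroup.card_le_of_le inf_le_left)
  obtain ⟨ψ, hψ, hext⟩ := (isReceptive_of_full hM hF hle' hfull).2 _ _ hphi
    ((range_eq_map_conj fun _ => rfl).trans hmap)
  have hN : FusionSystem.extender D (Subgroup.zpowers u) (conjHom (Subgroup.zpowers u) a) = D := by
    refine le_antisymm (fun x hx => (Fusion.mem_extender.1 hx).1) fun x hx => ?_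
    have hcx : Commute u x := (Subgroup.mem_centralizer_iff.1 huC x hx).symm
    refine Fusion.mem_extender.2 ⟨hx,
      Subgroup.centralizer_le_normalizer _ (mem_centralizer_zpowers_iff.2 hcx), 1, one_mem D,
      fun z hz => ?_⟩
    obtain ⟨k, hk⟩ := Subgroup.mem_zpowers_iff.1 z.2
    rw [one_mul, inv_one, mul_one]
    congr 1
    refine Subtype.ext ?_
    show x * (z : G) * x⁻¹ = z
    rw [← hk, (hcx.zpow_left k).eq.symm, mul_inv_cancel_right]
  obtain ⟨-, g, hg, -, n, hn, hn'⟩ := (hF.2 _ _).1 hψ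
  refine ⟨g, mem_pairStab_of_extend hM hmax.1.1 hN hn hn', ?_⟩
  have h1 := hext u (Subgroup.mem_zpowers u) (hN.symm.le huD)
  rw [hg] at h1
  exact h1.trans ha

/-- **The height bound.** -/
theorem pow_height_mul_card_center_le (hM : IsPModular p M) (hD : IsDefectGroup p M B D)
    (hmax : IsMaximalBrauerPair p M B D e) {H : Subgroup G}
    (hH : H = D ⊔ Subgroup.centralizer (D : Set G)) {χ : IrrCharacter G} (hχ : χ ∈ B) :
    p ^ blockHeight p B (χ : G → ℂ) * Nat.card (Subgroup.center D) ≤
      p ^ blockDefect p B * H.relIndex (pairStab D e) := by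
  classical
  haveI := Fact.mk hM.1
  obtain ⟨X, hX, hXrep⟩ : ∃ X : Finset G, (∀ x ∈ X, ∃ k : ℕ, orderOf x = p ^ k) ∧
      ∀ g : G, (∃ k : ℕ, orderOf g = p ^ k) → ∃! x, x ∈ X ∧ IsConj g x :=
    exists_pElement_reps p
  have hcen : ∀ z : Subgroup.center D, ((z : D) : G) ∈ Subgroup.centralizer (D : Set G) := fun z =>
    Subgroup.mem_centralizer_iff.2 fun y hy =>
      congrArg Subtype.val (Subgroup.mem_center_iff.1 z.2 ⟨y, hy⟩)
  have key : ∀ z : Subgroup.center D, ∃ (s : Subsection M B X) (g : G)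
      (f : Set (IrrCharacter (Subgroup.centralizer (Subgroup.zpowers ((z : D) : G) : Set G)))),
      g * ((z : D) : G) * g⁻¹ = (s.1 : G) ∧ blockDefect p s.2.1 = blockDefect p B ∧
      SubpairLE p M (Subgroup.zpowers ((z : D) : G)) f D e ∧
      subgroupBlockCoeff _ s.2.1 = gconj g (subgroupBlockCoeff _ f) := by
    intro z
    set u := ((z : D) : G) with hu
    have huD : u ∈ D := (z : D).2
    obtain ⟨f, -, hle⟩ := exists_subpairLE hM hmax.1.1 (Subgroup.zpowers_le.2 huD)
    obtain ⟨hind, hd⟩ := major_of_center hM hD hmax huD (hcen z) hle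
    have hpk : ∃ k : ℕ, orderOf u = p ^ k := by
      obtain ⟨k, hk⟩ := IsPGroup.iff_orderOf.1 hmax.1.1.1 (z : D)
      exact ⟨k, by rw [hu, Subgroup.orderOf_coe, hk]⟩
    obtain ⟨x, ⟨hxX, hconj⟩, -⟩ := hXrep u hpk
    obtain ⟨g, hg⟩ := isConj_iff.1 hconj
    have hmap : (Subgroup.zpowers u).map (MulAut.conj g).toMonoidHom = Subgroup.zpowers x := by
      rw [MonoidHom.map_zpowers]
      exact congrArg Subgroup.zpowers hg
    have hpairu := isBrauerPairOf_of_subpairLE hM hmax hle
    have hK : Subgroup.centralizer (((Subgroup.zpowers u).map (MulAut.conj g).toMonoidHom :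
        Subgroup G) : Set G) = Subgroup.centralizer ({x} : Set G) := by
      rw [hmap, Subgroup.zpowers_eq_closure, Subgroup.centralizer_closure]
    have hindg : IsInducedBlock M _ (conjBlock (Subgroup.zpowers u) g f) B := by
      exact isInducedBlock_of_eq_zpowers hM hmap (isBrauerPairOf_conj hpairu g)
    obtain ⟨b', hb', hbd, hbc⟩ := exists_block_of_eq hK hindg
      ((blockDefect_conjBlock _ g f).trans hd)
    exact ⟨⟨⟨x, hxX⟩, ⟨b', hb'⟩⟩, g, f, hg, hbd, hle,
      hbc.trans (subgroupBlockCoeff_conjBlock _ g f)⟩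
  choose s g f hg hds hle hco using key
  haveI := Fintype.ofFinite (Subgroup.center D)
  set R := Finset.univ.image s with hR
  have hcount := card_mul_pow_height_le hM hmax.1.2.1 X hX hXrep
    (fun i : R => (i : Subsection M B X)) Subtype.val_injective (fun i => by
      obtain ⟨z, -, hz⟩ := Finset.mem_image.1 i.2
      rw [← hz]; exact hds z) hχ
  have hfib : ∀ i ∈ R, (Finset.univ.filter fun z => s z = i).card ≤ H.relIndex (pairStab D e) := by
    intro i hi
    obtain ⟨z₀, -, rfl⟩ := Finset.mem_image.1 hi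
    set u₀ := ((z₀ : D) : G) with hu₀
    let T₀ := pairStab D e
    have hfix : ∀ h ∈ H, h * u₀ * h⁻¹ = u₀ := by
      intro h hh
      have hle : H ≤ Subgroup.centralizer ({u₀} : Set G) := by
        rw [hH]
        refine sup_le (fun y hy => Subgroup.mem_centralizer_singleton_iff.2
          (Subgroup.mem_centralizer_iff.1 (hcen z₀) y hy)) fun y hy => ?_
        exact Subgroup.mem_centralizer_singleton_iff.2
          (Subgroup.mem_centralizer_iff.1 hy u₀ (z₀ : D).2).symm
      have h1 := Subgroup.mem_centralizer_singleton_iff.1 (hle hh)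
      rw [h1, mul_inv_cancel_right]
    let orb : T₀ ⧸ H.subgroupOf T₀ → G := Quotient.lift (fun t : T₀ => (t : G) * u₀ * (t : G)⁻¹)
      (fun a b hab => by
        have h1 : (a⁻¹ * b : T₀) ∈ H.subgroupOf T₀ := QuotientGroup.leftRel_apply.1 hab
        have h2 := hfix _ (Subgroup.mem_subgroupOf.1 h1)
        simp only [Subgroup.coe_mul, Subgroup.coe_inv] at h2
        calc (a : G) * u₀ * (a : G)⁻¹ = (a : G) * (((a : G)⁻¹ * b) * u₀ * ((a : G)⁻¹ * b)⁻¹) *
              (a : G)⁻¹ := by rw [h2]
          _ = _ := by group)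
    have hsub : ∀ z ∈ Finset.univ.filter (fun z => s z = s z₀), ∃ q, orb q = ((z : D) : G) := by
      intro z hz
      have hsz : s z = s z₀ := (Finset.mem_filter.1 hz).2
      have hx : g z₀ * u₀ * (g z₀)⁻¹ = g z * ((z : D) : G) * (g z)⁻¹ := by rw [hg, hg, hsz]
      have hc : gconj (g z₀) (subgroupBlockCoeff _ (f z₀)) =
          gconj (g z) (subgroupBlockCoeff _ (f z)) := by
        rw [← hco, ← hco, hsz]
      obtain ⟨t, ht, htu⟩ := center_fusion hM hmax (z₀ : D).2 (hcen z₀) (z : D).2 (hcen z)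
        (a := (g z)⁻¹ * g z₀) (by
          calc (g z)⁻¹ * g z₀ * u₀ * ((g z)⁻¹ * g z₀)⁻¹
              = (g z)⁻¹ * (g z₀ * u₀ * (g z₀)⁻¹) * g z := by group
            _ = _ := by rw [hx]; group) (hle z₀) (hle z)
        (by rw [gconj_mul, hc, ← gconj_mul, inv_mul_cancel, gconj_one])
      exact ⟨QuotientGroup.mk (⟨t, ht⟩ : T₀), htu⟩
    haveI := Fintype.ofFinite (T₀ ⧸ H.subgroupOf T₀)
    rw [Subgroup.relIndex, Subgroup.index, Nat.card_eq_fintype_card, ← Finset.card_univ]
    choose q hq using hsub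
    refine Finset.card_le_card_of_injOn (fun z => if hz : z ∈ Finset.univ.filter
      (fun z => s z = s z₀) then q z hz else QuotientGroup.mk 1) (fun z _ => Finset.mem_univ _) ?_
    intro z hz z' hz' hzz'
    have hm : z ∈ Finset.univ.filter (fun z => s z = s z₀) := hz
    have hm' : z' ∈ Finset.univ.filter (fun z => s z = s z₀) := hz'
    simp only [dif_pos hm, dif_pos hm'] at hzz'
    have h1 := (hq z hm).symm.trans ((congrArg orb hzz').trans (hq z' hm'))
    exact Subtype.ext (Subtype.ext h1)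
  have hZ : Nat.card (Subgroup.center D) ≤ H.relIndex (pairStab D e) * R.card := by
    rw [Nat.card_eq_fintype_card, ← Finset.card_univ]
    exact Finset.card_le_mul_card_image _ _ hfib
  rw [Nat.card_eq_fintype_card, Fintype.card_coe] at hcount
  calc p ^ blockHeight p B (χ : G → ℂ) * Nat.card (Subgroup.center D)
      ≤ p ^ blockHeight p B (χ : G → ℂ) * (H.relIndex (pairStab D e) * R.card) :=
        Nat.mul_le_mul_left _ hZ
    _ = p ^ blockHeight p B (χ : G → ℂ) * R.card * H.relIndex (pairStab D e) := by ring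
    _ ≤ _ := Nat.mul_le_mul_right _ hcount

end Cfsg.Agent.Lib.HeightCenter
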