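import Cfsg.Agent.Lib.BrauerPairs.Saturation
import Cfsg.Agent.Lib.BlockHeights.AbelianInertial

/-!
# The pair underneath a root of a block
-/

set_option autoImplicit false
set_option linter.unusedSectionVars false
set_option linter.style.haveILetI false

namespace Cfsg.Agent.Lib.HeightCenter

open Cfsg Cfsg.Agent.Lib.Blocks Cfsg.Agent.Lib.Characters Cfsg.Agent.Lib.BrauerPairs

universe u

variable {G : Type u} [Group G] [Fintype G] {M : Ideal AlgInt} [hMp : M.IsPrime] {p : ℕ}
  {D H : Subgroup G} [Fintype H] {B : Set (IrrCharacter G)} {b : Set (IrrCharacter H)}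

theorem le_pairStab_of_eq_sup (hH : H = D ⊔ Subgroup.centralizer (D : Set G))
    (e : Set (IrrCharacter (Subgroup.centralizer (D : Set G)))) : H ≤ pairStab D e := by
  rw [hH]
  exact sup_le le_pairStab_self centralizer_le_pairStab

theorem extendByZero_trunc (hCH : Subgroup.centralizer (D : Set G) ≤ H) (β : G → ℂ) :
    extendByZero H (resFun H (trunc D β)) = trunc D β := by
  funext x
  by_cases hx : x ∈ H
  · rw [extendByZero_of_mem _ _ hx]; rfl
  · rw [extendByZero_of_not_mem _ _ hx, trunc_of_notMem fun h => hx (hCH h)]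

/-- **A root lies above a pair of the block.** -/
theorem exists_pair_of_root (hM : IsPModular p M) (hD : IsPGroup p D)
    (hH : H = D ⊔ Subgroup.centralizer (D : Set G)) (hind : IsInducedBlock M H b B) :
    ∃ e : Set (IrrCharacter (Subgroup.centralizer (D : Set G))),
      IsBrauerPairOf p M B D e ∧ b = blockAbove H e := by
  classical
  haveI := Fact.mk hM.1
  haveI := Fintype.ofFinite (Subgroup.centralizer (D : Set G))
  set C := Subgroup.centralizer (D : Set G) with hC
  have hCH : C ≤ H := hH ▸ le_sup_right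
  have hDH : D ≤ H := hH ▸ le_sup_left
  have hHN : H ≤ Subgroup.normalizer (D : Set G) := fun a ha =>
    (le_pairStab_of_eq_sup hH ∅ ha).1
  obtain ⟨ξ, hξ⟩ := IsPBlock.nonempty hind.1
  obtain ⟨χ, hχ⟩ := IsPBlock.nonempty hind.2.1
  haveI : Fintype (Bl M C) := Fintype.ofFinite _
  -- some block of the centraliser does not kill `ξ`
  obtain ⟨e, he⟩ : ∃ e : Bl M C, ξ ∈ blockAbove H e.1 := by
    by_contra hcon
    simp only [not_exists] at hcon
    have h1 : omega (ξ : H → ℂ) (resFun H (deltaOne : G → ℂ)) = 1 := by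
      rw [show resFun H (deltaOne : G → ℂ) = (deltaOne : H → ℂ) by
        funext h; simp [resFun, deltaOne_apply], omega_deltaOne ξ.2]
    rw [← sum_subgroupBlockCoeff (M := M) (K := C), resFun_sum, omega_sum] at h1
    refine zero_ne_one ((Finset.sum_eq_zero fun e _ => ?_).symm.trans h1)
    have h2 := congrArg (omega (ξ : H → ℂ))
      (blockCoeff_blockAbove hM e.2 hCH (le_pairStab_of_eq_sup hH e.1))
    rw [omega_blockCoeff, if_neg (hcon e)] at h2
    exact h2.symm
  have hb : b = blockAbove H e.1 := by
    rw [IsPBlock.eq_blockOf hind.1 hξ, IsPBlock.eq_blockOf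
      (isPBlock_blockAbove hM hD e.2 hCH hDH (le_pairStab_of_eq_sup hH e.1)) he]
  refine ⟨e.1, ?_, hb⟩
  obtain ⟨η, hη⟩ := IsPBlock.nonempty e.2
  refine isBrauerPairOf_of_exists hM ⟨hD, e.2⟩ hind.2.1 hη ?_
  have hBR := isRCentral_blockCoeff hM hind.2.1
  have hI : IsLocInv M D (blockCoeff B) := IsLocInv.of_isRCentral hBR
  refine (brauerOmega_idem hM hD hI (blockCoeff_conv_self B) η).resolve_left fun h0 => ?_
  set r := resFun C (blockCoeff B) with hr
  set be := blockCoeff e.1 with hbe
  have hrR : IsRCentral M r := hI.isRCentral_res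
  have hbeR : IsRCentral M be := isRCentral_blockCoeff hM e.2
  have hXR : IsRCentral M (conv r be) := hrR.conv hbeR
  have hrr : ∀ y, MemLocalIdeal M (r y - conv r r y) := fun y => by
    have h1 := resFun_conv_congr hM hD hI hI y
    rwa [blockCoeff_conv_self] at h1
  have hXX : conv (conv r be) (conv r be) = conv (conv r r) be := by
    refine ext_omega (isClassFunction_conv hXR.1 hXR.1)
      (isClassFunction_conv (isClassFunction_conv hrR.1 hrR.1) hbeR.1) fun ζ => ?_
    rw [omega_conv ζ.2 hXR.1, omega_conv ζ.2 hrR.1, omega_conv ζ.2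
      (isClassFunction_conv hrR.1 hrR.1), omega_conv ζ.2 hrR.1, omega_blockCoeff]
    split_ifs <;> ring
  have hidem : ∀ y, MemLocalIdeal M (conv r be y - conv (conv r be) (conv r be) y) := fun y => by
    rw [hXX]
    simp only [conv, ← Finset.sum_sub_distrib]
    refine memLocalIdeal_sum _ fun x _ => ?_
    rw [← sub_mul]
    exact memLocalIdeal_mul_right (hrr x) (hbeR.2 _)
  have hω : ∀ ζ : IrrCharacter C, MemLocalIdeal M (omega (ζ : C → ℂ) (conv r be)) := by
    intro ζ
    rw [omega_conv ζ.2 hrR.1, omega_blockCoeff]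
    split_ifs with hζ
    · rw [mul_one]
      have h2 := brauerOmega_congr_sameBlock hI e.2 hζ hη
      simp only [brauerOmega_eq_omega] at h2 h0
      simpa using memLocalIdeal_add h2 h0
    · rw [mul_zero]; exact memLocalIdeal_zero
  have hX0 := memLocalIdeal_of_idem hM hXR hidem hω
  -- the product of the two functions on `H`
  have hprod : conv (resFun H (trunc D (blockCoeff B))) (resFun H (subgroupBlockCoeff C e.1)) =
      resFun H (extendByZero C (conv r be)) := by
    rw [← conv_extendByZero (H := C), extendByZero_resFun_centralizer,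
      ← subgroupBlockCoeff_eq_extendByZero, ← extendByZero_trunc hCH (blockCoeff B),
      ← extendByZero_resFun_stable hCH e.1, conv_extendByZero]
    simp only [resFun_extendByZero]
  haveI := subgroupOf_normal_of_le_normalizer hHN
  have htr : IsClassFunction H (resFun H (trunc D (blockCoeff B))) := by
    rw [resFun_trunc hDH]
    exact isClassFunction_trunc_of_normal (isRCentral_resFun H hBR).1
  have hbig : IsRCentral M (resFun H (extendByZero C (conv r be))) :=
    ⟨hprod ▸ isClassFunction_conv htr
      (isRCentral_resFun_stable hM e.2 (le_pairStab_of_eq_sup hH e.1)).1,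
      fun h => memLocalRing_extendByZero hXR.2 _⟩
  have h3 := memLocalIdeal_omega_of_forall hbig (fun h => ?_) ξ
  · rw [← hprod, omega_conv ξ.2 htr, show omega (ξ : H → ℂ) (resFun H (subgroupBlockCoeff C e.1)) = 1
      from by have h5 := he; simp only [blockAbove, Set.mem_ofPred_eq] at h5; convert h5, mul_one] at h3
    have h4 := IsInducedBlock.omega_congr hind hξ hχ hBR
    rw [omega_blockCoeff, if_pos hχ] at h4
    exact not_memLocalIdeal_of_sub not_memLocalIdeal_one h4 (by
      simpa using memLocalIdeal_add (omega_resFun_trunc_congr hM hD hDH hHN ξ hBR) h3)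
  · show MemLocalIdeal M (extendByZero C (conv r be) (h : G))
    by_cases hh : (h : G) ∈ C
    · rw [extendByZero_of_mem _ _ hh]; exact hX0 _
    · rw [extendByZero_of_not_mem _ _ hh]; exact memLocalIdeal_zero

/-- The pair under a root at a defect group is maximal. -/
theorem isMaximal_of_pair (hM : IsPModular p M) (hD : IsDefectGroup p M B D)
    {e : Set (IrrCharacter (Subgroup.centralizer (D : Set G)))}
    (he : IsBrauerPairOf p M B D e) : IsMaximalBrauerPair p M B D e := by
  haveI := Fact.mk hM.1
  obtain ⟨R, e', hmax, hle⟩ := exists_maximal_above he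
  have hRD := isDefectGroup_of_isMaximal hM hmax
  obtain rfl : D = R := Subgroup.eq_of_le_of_card_ge (subpairLE_le hle) (by
    rw [IsDefectGroup.card_eq hM he.2.1 hRD, IsDefectGroup.card_eq hM he.2.1 hD])
  rwa [eq_of_subpairLE_self hM hle]

/-- The stabiliser of the pair fixes the root. -/
theorem pairStab_le_root_stab (hH : H = D ⊔ Subgroup.centralizer (D : Set G))
    {e : Set (IrrCharacter (Subgroup.centralizer (D : Set G)))} {g : G}
    (hg : g ∈ pairStab D e) (θ : IrrCharacter H) (hθ : θ ∈ blockAbove H e) (θ' : IrrCharacter H)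
    (h : ∀ h h' : H, (h' : G) = g * h * g⁻¹ → (θ' : H → ℂ) h' = (θ : H → ℂ) h) :
    θ' ∈ blockAbove H e := by
  classical
  have hmem : ∀ ψ : IrrCharacter H, ψ ∈ blockAbove H e ↔ omega (ψ : H → ℂ)
      (resFun H (subgroupBlockCoeff (Subgroup.centralizer (D : Set G)) e)) = 1 := fun ψ => by
    simp only [blockAbove, Set.mem_ofPred_eq]
    constructor <;> intro h <;> convert h
  rw [hmem] at hθ ⊢
  have hconj : ∀ x : G, x ∈ H → g * x * g⁻¹ ∈ H := fun x hx => by
    rw [hH] at hx ⊢
    refine Subgroup.mem_normalizer_iff.1 ?_ x |>.1 hx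
    refine Fusion.mem_normalizer_of_finite fun y hy => ?_
    have h1 : g * y * g⁻¹ ∈ (D ⊔ Subgroup.centralizer (D : Set G)).map (MulAut.conj g).toMonoidHom :=
      ⟨y, hy, rfl⟩
    rwa [Subgroup.map_sup, map_conj_of_mem_normalizer hg.1,
      map_conj_of_mem_normalizer (normalizer_le_normalizer_centralizer D hg.1)] at h1
  let φ : H → H := fun x => ⟨g * x * g⁻¹, hconj x x.2⟩
  have hφ : Function.Bijective φ := Finite.injective_iff_bijective.1 fun a b hab => by
    have h1 := congrArg Subtype.val hab
    exact Subtype.ext (mul_left_cancel (mul_right_cancel h1))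
  rw [← hθ, omega, omega]
  congr 1
  · refine (Fintype.sum_bijective φ hφ _ _ fun x => ?_).symm
    rw [h x (φ x) rfl]
    congr 1
    show subgroupBlockCoeff _ e (x : G) = subgroupBlockCoeff _ e (g * x * g⁻¹)
    conv_rhs => rw [← hg.2, gconj_apply]
    congr 1
    group
  · exact h 1 1 (by simp)

end Cfsg.Agent.Lib.HeightCenter
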