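import Cfsg.Agent.Lib.Blocks.MajorSubsection
import Cfsg.Agent.Lib.BlockHeights.GaloisTrace

/-!
# Divisibility and positivity of the diagonal contributions of a major subsection
-/

set_option autoImplicit false
set_option linter.unusedSectionVars false
set_option linter.style.haveILetI false

namespace Cfsg.Agent.Lib.HeightCenter

open Cfsg Cfsg.Agent.Lib.Blocks Cfsg.Agent.Lib.Characters Cfsg.Agent.Lib.BlockHeights
open scoped ComplexConjugate

universe u

variable {G : Type u} [Group G] [Fintype G] {M : Ideal AlgInt} [hMp : M.IsPrime] {p : ℕ}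
  {C : Subgroup G} [Fintype C] {x : G}

/-- The lifted section function has algebraic integer values. -/
theorem sectionLift_integral [DecidableEq G] (hM : IsPModular p M) (hC : ∀ g, g ∈ C ↔ Commute x g)
    (hx : ∃ k : ℕ, orderOf x = p ^ k) {f : C → ℂ} (hf : IsClassFunction C f)
    (hreg : ∀ s, ¬ IsPRegular p s → f s = 0) (hloc : ∀ s, IsIntegral ℤ (f s)) :
    ∀ y, IsIntegral ℤ (sectionLift x f y) := by
  intro y
  by_cases hex : ∃ (g₀ : G) (s₀ : C), IsPRegular p s₀ ∧ g₀ * (x * (s₀ : G)) * g₀⁻¹ = y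
  · obtain ⟨g₀, s₀, hs₀, rfl⟩ := hex
    haveI : DecidablePred (· ∈ C) := Classical.decPred _
    have key : ∀ g : G, (∑ s : C, if g * (x * (s : G)) * g⁻¹ = g₀ * (x * (s₀ : G)) * g₀⁻¹
        then f s else 0) = if g₀⁻¹ * g ∈ C then f s₀ else 0 := by
      intro g
      by_cases hg : g₀⁻¹ * g ∈ C
      · rw [if_pos hg]
        set c : C := ⟨g₀⁻¹ * g, hg⟩ with hc
        rw [Finset.sum_eq_single (c⁻¹ * s₀ * c)]
        · rw [if_pos]
          · rw [show c⁻¹ * s₀ * c = c⁻¹ * s₀ * c⁻¹⁻¹ by rw [inv_inv], hf]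
          · have hcx := ((hC _).1 (c⁻¹).2).eq
            simp only [Subgroup.coe_mul, Subgroup.coe_inv] at hcx ⊢
            have hg' : g = g₀ * (g₀⁻¹ * g) := by group
            calc g * (x * ((g₀⁻¹ * g)⁻¹ * (s₀ : G) * (g₀⁻¹ * g))) * g⁻¹
                = g * (x * (g₀⁻¹ * g)⁻¹) * (s₀ : G) * ((g₀⁻¹ * g) * g⁻¹) := by group
              _ = g * ((g₀⁻¹ * g)⁻¹ * x) * (s₀ : G) * ((g₀⁻¹ * g) * g⁻¹) := by rw [hcx]
              _ = _ := by group
        · intro s _ hne
          by_cases hs : IsPRegular p s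
          · rw [if_neg fun e => hne ?_]
            have e' : (g₀⁻¹ * g) * (x * (s : G)) * (g₀⁻¹ * g)⁻¹ = x * (s₀ : G) := by
              calc (g₀⁻¹ * g) * (x * (s : G)) * (g₀⁻¹ * g)⁻¹
                  = g₀⁻¹ * (g * (x * (s : G)) * g⁻¹) * g₀ := by group
                _ = _ := by rw [e]; group
            obtain ⟨hg', he⟩ := (isConj_shift_iff hM hC hx hs hs₀ _).1 e'
            rw [show c⁻¹ * s₀ * c = s by rw [← he, hc]; group]
          · simp [hreg s hs]
        · simp
      · rw [if_neg hg]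
        refine Finset.sum_eq_zero fun s _ => ?_
        by_cases hs : IsPRegular p s
        · refine if_neg fun e => hg ?_
          have e' : (g₀⁻¹ * g) * (x * (s : G)) * (g₀⁻¹ * g)⁻¹ = x * (s₀ : G) := by
            calc (g₀⁻¹ * g) * (x * (s : G)) * (g₀⁻¹ * g)⁻¹
                = g₀⁻¹ * (g * (x * (s : G)) * g⁻¹) * g₀ := by group
              _ = _ := by rw [e]; group
          exact ((isConj_shift_iff hM hC hx hs hs₀ _).1 e').choose
        · simp [hreg s hs]
    unfold sectionLift
    rw [Finset.sum_congr rfl fun g _ => key g, ← Equiv.sum_comp (Equiv.mulLeft g₀)]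
    simp only [Equiv.coe_mulLeft, inv_mul_cancel_left]
    rw [← Finset.sum_filter, Finset.sum_const, nsmul_eq_mul, ← mul_assoc,
      show ((Finset.univ.filter fun a : G => a ∈ C).card : ℕ) = Nat.card C by
        rw [Nat.card_eq_fintype_card, Fintype.card_subtype],
      inv_mul_cancel₀ (Nat.cast_ne_zero.2 Nat.card_pos.ne'), one_mul]
    exact hloc s₀
  · simp only [not_exists, not_and] at hex
    unfold sectionLift
    rw [Finset.sum_eq_zero fun g _ => Finset.sum_eq_zero fun s _ => ?_, mul_zero]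
    · exact isIntegral_zero
    · by_cases hs : IsPRegular p s
      · exact if_neg (hex g s hs)
      · simp [hreg s hs]

theorem isIntegral_sect (hC : ∀ g, g ∈ C ↔ Commute x g) (e : Set (IrrCharacter C))
    (χ : IrrCharacter G) (s : C) : IsIntegral ℤ (sect p x e (χ : G → ℂ) s) := by
  classical
  haveI := Fintype.ofFinite (IrrCharacter C)
  have hxC : x ∈ C := (hC x).2 (Commute.refl x)
  rw [sect_expand hC hxC e χ]
  simp only [Finset.sum_apply, Pi.smul_apply, smul_eq_mul]
  refine IsIntegral.sum _ fun η _ => IsIntegral.mul ?_ ?_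
  · split_ifs
    · exact (isIntegral_of_pow_eq_one Nat.card_pos.ne'
        (centralRoot_pow hC hxC η (pow_card_eq_one' (x := x)))).mul (isIntegral_resMult χ η)
    · exact isIntegral_zero
  · rw [pRegularPart_eq]
    simp only
    by_cases hs : IsPRegular p s
    · rw [regInd_of_regular hs, one_mul]; exact Blocks.isIntegral_char η s
    · rw [regInd_of_singular hs, zero_mul]; exact isIntegral_zero

theorem sect_mem_cycField [NeZero (Nat.card G)] (hC : ∀ g, g ∈ C ↔ Commute x g)
    (e : Set (IrrCharacter C)) (χ : IrrCharacter G) (s : C) :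
    sect p x e (χ : G → ℂ) s ∈ cycField (Nat.card G) := by
  classical
  haveI := Fintype.ofFinite (IrrCharacter C)
  have hxC : x ∈ C := (hC x).2 (Commute.refl x)
  rw [sect_expand hC hxC e χ]
  simp only [Finset.sum_apply, Pi.smul_apply, smul_eq_mul]
  refine sum_mem fun η _ => mul_mem ?_ ?_
  · split_ifs
    · obtain ⟨m, hm⟩ := exists_resMult_nat (C := C) χ η
      rw [hm]
      exact mul_mem (mem_cycField_of_pow_eq_one (centralRoot_pow hC hxC η (pow_card_eq_one' (x := x))))
        (natCast_mem _ m)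
    · exact zero_mem _
  · rw [pRegularPart_eq]
    simp only
    by_cases hs : IsPRegular p s
    · rw [regInd_of_regular hs, one_mul]
      obtain ⟨ι, hι, μ, hμ, h⟩ := exists_eigen_sum (irr_isCharacter η) s
      have h1 := h 1
      simp only [pow_one] at h1
      rw [h1]
      refine sum_mem fun i _ => mem_cycField_of_pow_eq_one ?_
      have hd : orderOf s ∣ Nat.card G :=
        (orderOf_dvd_natCard s).trans (Subgroup.card_subgroup_dvd_card C)
      obtain ⟨k, hk⟩ := hd
      rw [hk, pow_mul, hμ i, one_pow]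
    · rw [regInd_of_singular hs, zero_mul]; exact zero_mem _

/-- The weight of a subsection in the norm of a character. -/
noncomputable def weight (p : ℕ) (x : G) (e : Set (IrrCharacter C)) (χ : IrrCharacter G) : ℂ :=
  classInner (sect p x e (χ : G → ℂ)) (sect p x e (χ : G → ℂ))

theorem weight_mem_cycField [NeZero (Nat.card G)] (hC : ∀ g, g ∈ C ↔ Commute x g)
    (e : Set (IrrCharacter C)) (χ : IrrCharacter G) :
    weight p x e χ ∈ cycField (Nat.card G) := by
  classical
  rw [weight, classInner]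
  refine mul_mem (inv_mem (natCast_mem _ _)) (sum_mem fun s _ => mul_mem (sect_mem_cycField hC e χ s) ?_)
  obtain ⟨h, -⟩ := exists_conj_mem_comm (AlgEquiv.refl : cycField (Nat.card G) ≃ₐ[ℚ] _)
    (sect_mem_cycField (p := p) hC e χ s)
  exact h

/-- All conjugates of a weight are nonnegative reals. -/
theorem gal_weight_nonneg [NeZero (Nat.card G)] (hC : ∀ g, g ∈ C ↔ Commute x g)
    (e : Set (IrrCharacter C)) (χ : IrrCharacter G)
    (σ : cycField (Nat.card G) ≃ₐ[ℚ] cycField (Nat.card G)) :
    ∃ r : ℝ, 0 ≤ r ∧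
      ((σ ⟨weight p x e χ, weight_mem_cycField hC e χ⟩ : cycField (Nat.card G)) : ℂ) = (r : ℂ) := by
  classical
  choose hc hcσ using fun s : C => exists_conj_mem_comm σ (sect_mem_cycField (p := p) hC e χ s)
  let v : C → cycField (Nat.card G) := fun s => ⟨_, sect_mem_cycField (p := p) hC e χ s⟩
  refine ⟨(Nat.card C : ℝ)⁻¹ * ∑ s : C, ‖((σ (v s) : cycField (Nat.card G)) : ℂ)‖ ^ 2,
    by positivity, ?_⟩
  have h1 : (⟨weight p x e χ, weight_mem_cycField hC e χ⟩ : cycField (Nat.card G)) =
      ((Nat.card C : cycField (Nat.card G)))⁻¹ * ∑ s : C, v s * ⟨_, hc s⟩ := Subtype.ext (by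
    rw [MulMemClass.coe_mul, AddSubmonoidClass.coe_finsetSum]
    simp [weight, classInner, v])
  rw [h1, map_mul, map_inv₀, map_natCast, map_sum, MulMemClass.coe_mul,
    AddSubmonoidClass.coe_finsetSum]
  push_cast
  refine congrArg₂ (· * ·) (by simp) (Finset.sum_congr rfl fun s _ => ?_)
  rw [map_mul, MulMemClass.coe_mul, hcσ, Complex.mul_conj']

theorem weight_ne_zero (hM : IsPModular p M) (hC : ∀ g, g ∈ C ↔ Commute x g)
    (hx : ∃ k : ℕ, orderOf x = p ^ k) {e : Set (IrrCharacter C)} {B : Set (IrrCharacter G)}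
    (hind : IsInducedBlock M C e B) (hd : blockDefect p e = blockDefect p B)
    {χ : IrrCharacter G} (hχ : χ ∈ B) : weight p x e χ ≠ 0 := by
  classical
  obtain ⟨ψ, hψ, hmin⟩ := exists_nu_eq_minExp (p := p) (IsPBlock.nonempty hind.2.1)
  have hψ0 : blockHeight p B (ψ : G → ℂ) = 0 := by
    have := minExp_add_blockHeight (p := p) hψ
    omega
  have hne := (contrib_height hM hC hx hind hd hχ hψ hψ0).1
  intro h
  apply hne
  have hz : sect p x e (χ : G → ℂ) = 0 := by
    have h1 : ∑ s : C, ((‖sect p x e (χ : G → ℂ) s‖ ^ 2 : ℝ) : ℂ) = 0 := by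
      rw [weight, classInner, mul_eq_zero] at h
      have h2 := h.resolve_left (inv_ne_zero natCard_ne_zero_complex)
      refine Eq.trans (Finset.sum_congr rfl fun s _ => ?_) h2
      rw [Complex.mul_conj']; push_cast; rfl
    rw [← Complex.ofReal_sum, Complex.ofReal_eq_zero,
      Finset.sum_eq_zero_iff_of_nonneg fun s _ => by positivity] at h1
    funext s
    simpa using h1 s (Finset.mem_univ s)
  rw [contrib, hz]
  simp [classInner]

/-- **The diagonal contribution is divisible by `p` to the height.** -/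
theorem isIntegral_scaled_weight (hM : IsPModular p M) (hC : ∀ g, g ∈ C ↔ Commute x g)
    (hx : ∃ k : ℕ, orderOf x = p ^ k) {e : Set (IrrCharacter C)} {B : Set (IrrCharacter G)}
    (hind : IsInducedBlock M C e B) (hd : blockDefect p e = blockDefect p B)
    {φ : IrrCharacter G} (hφ : φ ∈ B) :
    IsIntegral ℤ ((p : ℂ) ^ blockDefect p B * weight p x e φ /
      (p : ℂ) ^ blockHeight p B (φ : G → ℂ)) := by
  classical
  haveI := Fintype.ofFinite (IrrCharacter C)
  have hpp := hM.1
  set f : C → ℂ := fun s => conj (sect p x e (φ : G → ℂ) s)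
  have hfcl : IsClassFunction C f := fun a b => by
    show conj _ = conj _
    rw [show sect p x e (φ : G → ℂ) (b * a * b⁻¹) = sect p x e (φ : G → ℂ) a from
      isClassFunction_pRegularPart p (isClassFunction_blockPart _ _) a b]
  have hfreg : ∀ s, ¬ IsPRegular p s → f s = 0 := fun s hs => by
    show conj (sect p x e (φ : G → ℂ) s) = 0
    rw [sect, pRegularPart_eq]
    simp [regInd_of_singular hs]
  have hfint : ∀ s, IsIntegral ℤ (f s) := fun s =>
    (isIntegral_sect (p := p) hC e φ s).map (Complex.conjAe.toAlgHom.restrictScalars ℤ)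
  have hΦint := sectionLift_integral hM hC hx hfcl hfreg hfint
  have hΦcl := (sectionLift_local hM hC hx hfcl hfreg fun s => memLocalRing_of_isIntegral' (hfint s)).1
  have hω : IsIntegral ℤ (omega (φ : G → ℂ) (sectionLift x f)) := by
    haveI : Finite (ConjClasses G) := Finite.of_surjective _ ConjClasses.mk_surjective
    haveI := Fintype.ofFinite (ConjClasses G)
    rw [omega_eq_sum_classes (irr_isClassFunction φ) hΦcl]
    exact IsIntegral.sum _ fun K _ => (hΦint _).mul (isIntegral_centralChar_irr φ.2 _)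
  have h1 := sum_sectionLift_mul (x := x) f φ
  rw [← omega_mul_apply_one φ.2] at h1
  have h2 : classInner (shiftRes C x (φ : G → ℂ)) (sect p x e (φ : G → ℂ)) =
      (Nat.card C : ℂ)⁻¹ * ∑ s : C, f s * shiftRes C x (φ : G → ℂ) s := by
    rw [classInner]
    congr 1
    exact Finset.sum_congr rfl fun s _ => mul_comm _ _
  rw [← h2, ← classInner_sect_eq hM hC hind.1] at h1
  set a := (Nat.card G).factorization p with ha
  set m := ordPart p G with hm
  set r := charDegree (φ : G → ℂ) / p ^ nu p (φ : G → ℂ) with hr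
  set h := blockHeight p B (φ : G → ℂ) with hh
  have hdeg : (φ : G → ℂ) 1 = (p : ℂ) ^ nu p (φ : G → ℂ) * (r : ℂ) := by
    rw [irr_apply_one, ← Nat.cast_pow, ← Nat.cast_mul]
    congr 1
    exact (Nat.ordProj_mul_ordCompl_eq_self _ p).symm
  have hcardG : (Nat.card G : ℂ) = (p : ℂ) ^ a * (m : ℂ) := natCard_eq_mul
  have hexp : blockDefect p B + nu p (φ : G → ℂ) = a + h := by
    rw [hh, ← minExp_add_blockHeight (p := p) hφ, ha, ← blockDefect_add_minExp (p := p) hind.2.1]
    ring
  have hp0 : (p : ℂ) ≠ 0 := Nat.cast_ne_zero.2 hpp.ne_zero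
  set W := (p : ℂ) ^ blockDefect p B * weight p x e φ with hW
  have hkey : (m : ℂ) * W = (p : ℂ) ^ h * ((r : ℂ) * omega (φ : G → ℂ) (sectionLift x f)) := by
    rw [hcardG, hdeg] at h1
    apply mul_left_cancel₀ (pow_ne_zero a hp0)
    have h3 := congrArg (fun z => (p : ℂ) ^ blockDefect p B * z) h1
    have hpe : (p : ℂ) ^ blockDefect p B * (p : ℂ) ^ nu p (φ : G → ℂ) =
        (p : ℂ) ^ a * (p : ℂ) ^ h := by rw [← pow_add, ← pow_add, hexp]
    rw [hW, weight]
    linear_combination (r : ℂ) * omega (φ : G → ℂ) (sectionLift x f) * hpe - h3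
  have hWint : IsIntegral ℤ W := by
    have h4 := isIntegral_contrib (p := p) hM hC hind.1 φ φ
    rwa [contrib, hd] at h4
  have hcop : Nat.Coprime m (p ^ h) := Nat.Coprime.pow_right _ ((Nat.Prime.coprime_iff_not_dvd hpp).2
    (Nat.not_dvd_ordCompl hpp Nat.card_pos.ne')).symm
  obtain ⟨u, v, huv⟩ : ∃ u v : ℤ, u * (m : ℤ) + v * ((p ^ h : ℕ) : ℤ) = 1 := hcop.isCoprime
  have huv' : (u : ℂ) * (m : ℂ) + (v : ℂ) * (p : ℂ) ^ h = 1 := by
    have := congrArg (Int.cast : ℤ → ℂ) huv
    push_cast at this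
    exact this
  have : W / (p : ℂ) ^ h = (u : ℂ) * ((r : ℂ) * omega (φ : G → ℂ) (sectionLift x f)) + (v : ℂ) * W := by
    field_simp
    linear_combination -W * huv' + (u : ℂ) * hkey
  rw [this]
  exact ((isIntegral_algebraMap (R := ℤ) (x := u)).mul
    ((isIntegral_algebraMap (R := ℤ) (x := (r : ℤ))).mul hω)).add
      ((isIntegral_algebraMap (R := ℤ) (x := v)).mul hWint)

end Cfsg.Agent.Lib.HeightCenter
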